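import Cfsg.Agent.H234.GT.Elt

/-!
# S5211, task G2-Q2-G23: the centralizer of the involution `X6` in `OG` has order at most `576`
-/

set_option autoImplicit false
set_option linter.unusedSimpArgs false
set_option linter.unusedTactic false
set_option linter.unreachableTactic false

namespace Cfsg.Agent.H234.GT

open Cfsg.Lie Matrix

def E0 : V := ![1, 0, 0, 0, 0, 0, 0, 0]
def E1 : V := ![0, 1, 0, 0, 0, 0, 0, 0]
def E2 : V := ![0, 0, 1, 0, 0, 0, 0, 0]
def E4 : V := ![0, 0, 0, 0, 1, 0, 0, 0]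

theorem oct_E0 (x : V) : oct E0 x = x := by
  ext i
  fin_cases i <;> simp [oct, E0]

theorem oct_E0' (x : V) : oct x E0 = x := by
  ext i
  fin_cases i <;> simp [oct, E0]

theorem ac_E0 (g : OG) : ac g E0 = E0 := by
  have h1 : ∀ y : V, oct (ac g E0) y = y := fun y => by
    have h2 := ac_oct g E0 (ac g⁻¹ y)
    rw [oct_E0, ac_ac_inv] at h2
    exact h2.symm
  have h2 := h1 E0
  rwa [oct_E0'] at h2

theorem oct_E11 : oct E1 E1 = -E0 := by
  ext i
  fin_cases i <;> simp [oct, E0, E1]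

theorem oct_E22 : oct E2 E2 = -E0 := by
  ext i
  fin_cases i <;> simp [oct, E0, E2]

theorem oct_E44 : oct E4 E4 = -E0 := by
  ext i
  fin_cases i <;> simp [oct, E0, E4]

theorem oct_E12 : oct E1 E2 = -oct E2 E1 := by
  ext i
  fin_cases i <;> simp [oct, E2, E1]

/-- a vector is a combination of the basis vectors -/
theorem decompV (x : V) : x = x 0 • E0 + x 1 • E1 + x 2 • E2 + x 3 • oct E1 E2 + x 4 • E4 + x 5 • oct E1 E4 +
    x 6 • oct E2 E4 + x 7 • oct (oct E1 E2) E4 := by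
  ext i
  fin_cases i <;> simp [oct, E0, E1, E2, E4]

/-- an element is determined by the images of three vectors -/
theorem ext3 {g g' : OG} (h1 : ac g E1 = ac g' E1) (h2 : ac g E2 = ac g' E2) (h4 : ac g E4 = ac g' E4) : g = g' := by
  apply ac_ext
  intro x
  rw [decompV x]
  simp only [ac_add, ac_smul, ac_oct, ac_E0, h1, h2, h4]

theorem ac_X6_E1 : ac X6 E1 = E1 := by
  rw [ac_X6]
  ext i
  fin_cases i <;> simp [fX6, E1]

theorem ac_X6_E2 : ac X6 E2 = E2 := by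
  rw [ac_X6]
  ext i
  fin_cases i <;> simp [fX6, E2]

theorem ac_X6_E4 : ac X6 E4 = -E4 := by
  rw [ac_X6]
  ext i
  fin_cases i <;> simp [fX6, E4]

theorem self_neg {t : ZMod 3} (h : -t = t) : t = 0 := by
  revert t
  decide

/-- the fixed vectors of `X6` -/
theorem fix_X6 {x : V} (h : ac X6 x = x) : x = ![x 0, x 1, x 2, x 3, 0, 0, 0, 0] := by
  rw [ac_X6] at h
  have h4 := self_neg (congrFun h 4)
  have h5 := self_neg (congrFun h 5)
  have h6 := self_neg (congrFun h 6)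
  have h7 := self_neg (congrFun h 7)
  ext i
  fin_cases i <;> simp [h4, h5, h6, h7]

/-- the vectors inverted by `X6` -/
theorem neg_X6 {x : V} (h : ac X6 x = -x) : x = ![0, 0, 0, 0, x 4, x 5, x 6, x 7] := by
  rw [ac_X6] at h
  have h0 := self_neg (congrFun h 0).symm
  have h1 := self_neg (congrFun h 1).symm
  have h2 := self_neg (congrFun h 2).symm
  have h3 := self_neg (congrFun h 3).symm
  ext i
  fin_cases i <;> simp [h0, h1, h2, h3]

/-- pairs of orthogonal unit vectors in `F₃³` -/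
abbrev T2 : Type := {p : (ZMod 3 × ZMod 3 × ZMod 3) × (ZMod 3 × ZMod 3 × ZMod 3) //
  p.1.1 * p.1.1 + p.1.2.1 * p.1.2.1 + p.1.2.2 * p.1.2.2 = 1 ∧ p.2.1 * p.2.1 + p.2.2.1 * p.2.2.1 + p.2.2.2 * p.2.2.2 = 1 ∧
    p.1.1 * p.2.1 + p.1.2.1 * p.2.2.1 + p.1.2.2 * p.2.2.2 = 0}

/-- unit vectors in `F₃⁴` -/
abbrev T1 : Type := {p : ZMod 3 × ZMod 3 × ZMod 3 × ZMod 3 //
  p.1 * p.1 + p.2.1 * p.2.1 + p.2.2.1 * p.2.2.1 + p.2.2.2 * p.2.2.2 = 1}

theorem card_T2 : Nat.card T2 = 24 := by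
  rw [Nat.card_eq_fintype_card, Fintype.card_subtype]
  decide +kernel

theorem card_T1 : Nat.card T1 = 24 := by
  rw [Nat.card_eq_fintype_card, Fintype.card_subtype]
  decide +kernel

/-- the square roots of `-1` in the quaternions -/
theorem quat {x : V} (hx : x = ![x 0, x 1, x 2, x 3, 0, 0, 0, 0]) (h : oct x x = -E0) :
    x 0 = 0 ∧ x 1 * x 1 + x 2 * x 2 + x 3 * x 3 = 1 := by
  have key : ∀ a b c d : ZMod 3, a * a - b * b - c * c - d * d = -1 → a * b + b * a = 0 → a * c + c * a = 0 →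
      a * d + d * a = 0 → a = 0 ∧ b * b + c * c + d * d = 1 := by decide
  have h0 := congrFun h 0
  have h1 := congrFun h 1
  have h2 := congrFun h 2
  have h3 := congrFun h 3
  rw [hx] at h0 h1 h2 h3
  simp [oct, E0] at h0 h1 h2 h3
  exact key _ _ _ _ h0 (by linear_combination h1) (by linear_combination h2) (by linear_combination h3)

/-- the square roots of `-1` orthogonal to the quaternions -/
theorem quat' {x : V} (hx : x = ![0, 0, 0, 0, x 4, x 5, x 6, x 7]) (h : oct x x = -E0) :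
    x 4 * x 4 + x 5 * x 5 + x 6 * x 6 + x 7 * x 7 = 1 := by
  have key : ∀ a b c d : ZMod 3, -(a * a) - b * b - c * c - d * d = -1 → a * a + b * b + c * c + d * d = 1 := by decide
  have h0 := congrFun h 0
  rw [hx] at h0
  simp [oct, E0] at h0
  exact key _ _ _ _ h0

/-- anticommuting quaternions are orthogonal -/
theorem quat2 {x y : V} (hx : x = ![0, x 1, x 2, x 3, 0, 0, 0, 0]) (hy : y = ![0, y 1, y 2, y 3, 0, 0, 0, 0])
    (h : oct x y = -oct y x) : x 1 * y 1 + x 2 * y 2 + x 3 * y 3 = 0 := by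
  have h0 := congrFun h 0
  rw [hx, hy] at h0
  simp [oct] at h0
  exact self_neg (by linear_combination h0)

/-- the images of the three vectors under an element centralizing `X6` -/
theorem cent_vec {g : OG} (hg : g * X6 = X6 * g) :
    (ac g E1 = ![0, ac g E1 1, ac g E1 2, ac g E1 3, 0, 0, 0, 0] ∧
      ac g E1 1 * ac g E1 1 + ac g E1 2 * ac g E1 2 + ac g E1 3 * ac g E1 3 = 1) ∧
    (ac g E2 = ![0, ac g E2 1, ac g E2 2, ac g E2 3, 0, 0, 0, 0] ∧
      ac g E2 1 * ac g E2 1 + ac g E2 2 * ac g E2 2 + ac g E2 3 * ac g E2 3 = 1) ∧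
    ac g E1 1 * ac g E2 1 + ac g E1 2 * ac g E2 2 + ac g E1 3 * ac g E2 3 = 0 ∧
    (ac g E4 = ![0, 0, 0, 0, ac g E4 4, ac g E4 5, ac g E4 6, ac g E4 7] ∧
      ac g E4 4 * ac g E4 4 + ac g E4 5 * ac g E4 5 + ac g E4 6 * ac g E4 6 + ac g E4 7 * ac g E4 7 = 1) := by
  have e1 : ac X6 (ac g E1) = ac g E1 := by rw [← ac_mul, ← hg, ac_mul, ac_X6_E1]
  have e2 : ac X6 (ac g E2) = ac g E2 := by rw [← ac_mul, ← hg, ac_mul, ac_X6_E2]
  have e4 : ac X6 (ac g E4) = -ac g E4 := by rw [← ac_mul, ← hg, ac_mul, ac_X6_E4, ac_neg]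
  have s1 : oct (ac g E1) (ac g E1) = -E0 := by rw [← ac_oct, oct_E11, ac_neg, ac_E0]
  have s2 : oct (ac g E2) (ac g E2) = -E0 := by rw [← ac_oct, oct_E22, ac_neg, ac_E0]
  have s4 : oct (ac g E4) (ac g E4) = -E0 := by rw [← ac_oct, oct_E44, ac_neg, ac_E0]
  have s12 : oct (ac g E1) (ac g E2) = -oct (ac g E2) (ac g E1) := by rw [← ac_oct, ← ac_oct, oct_E12, ac_neg]
  have k1 := quat (fix_X6 e1) s1
  have k2 := quat (fix_X6 e2) s2
  have l1 := fix_X6 e1
  have l2 := fix_X6 e2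
  rw [k1.1] at l1
  rw [k2.1] at l2
  exact ⟨⟨l1, k1.2⟩, ⟨l2, k2.2⟩, quat2 l1 l2 s12, neg_X6 e4, quat' (neg_X6 e4) s4⟩

/-- the three images as elements of `T2 × T1` -/
def vecs (g : {g : OG // g * X6 = X6 * g}) : T2 × T1 :=
  (⟨((ac g.1 E1 1, ac g.1 E1 2, ac g.1 E1 3), (ac g.1 E2 1, ac g.1 E2 2, ac g.1 E2 3)),
    (cent_vec g.2).1.2, (cent_vec g.2).2.1.2, (cent_vec g.2).2.2.1⟩,
   ⟨(ac g.1 E4 4, ac g.1 E4 5, ac g.1 E4 6, ac g.1 E4 7), (cent_vec g.2).2.2.2.2⟩)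

theorem vecs_injective : Function.Injective vecs := by
  intro g g' h
  have h1 := congrArg (fun p => p.1.1) h
  have h2 := congrArg (fun p => p.2.1) h
  simp only [vecs, Prod.mk.injEq] at h1 h2
  obtain ⟨⟨a1, a2, a3⟩, b1, b2, b3⟩ := h1
  obtain ⟨c1, c2, c3, c4⟩ := h2
  obtain ⟨⟨u1, -⟩, ⟨u2, -⟩, -, u4, -⟩ := cent_vec g.2
  obtain ⟨⟨v1, -⟩, ⟨v2, -⟩, -, v4, -⟩ := cent_vec g'.2
  apply Subtype.ext
  apply ext3
  · rw [u1, v1, a1, a2, a3]
  · rw [u2, v2, b1, b2, b3]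
  · rw [u4, v4, c1, c2, c3, c4]

/-- **The bound.** -/
theorem card_cent : Nat.card {g : OG // g * X6 = X6 * g} ≤ 576 := by
  have h1 := Nat.card_le_card_of_injective vecs vecs_injective
  rw [Nat.card_prod, card_T2, card_T1] at h1
  exact h1

end Cfsg.Agent.H234.GT
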