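import Cfsg.Agent.H234.GT.Oct

/-!
# S5211, task G2-Q2-G23: elements of the automorphism group of the octonions over `F₃`

`X1, …, X6` generate a Sylow `2`-subgroup; `g1`, `g2`, `h` have order three.
-/

set_option autoImplicit false

namespace Cfsg.Agent.H234.GT

open Cfsg.Lie Matrix

def fX1 (x : V) : V := ![x 0, -x 1, x 3, x 2, x 5, x 4, -x 6, x 7]
def fX2 (x : V) : V := ![x 0, -x 1, x 2, -x 3, -x 7, x 6, x 5, -x 4]
def fX3 (x : V) : V := ![x 0, -x 1, -x 2, x 3, x 4, -x 5, -x 6, x 7]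
def fX4 (x : V) : V := ![x 0, -x 1, -x 2, x 3, -x 5, -x 4, x 7, x 6]
def fX5 (x : V) : V := ![x 0, x 1, -x 2, -x 3, x 4, x 5, -x 6, -x 7]
def fX6 (x : V) : V := ![x 0, x 1, x 2, x 3, -x 4, -x 5, -x 6, -x 7]
def fg1 (x : V) : V :=
  ![x 0, x 1, x 2, x 3, x 4 - x 5 - x 6 - x 7, x 4 + x 5 - x 6 + x 7, x 4 + x 5 + x 6 - x 7, x 4 - x 5 + x 6 + x 7]
def fg1i (x : V) : V :=
  ![x 0, x 1, x 2, x 3, x 4 + x 5 + x 6 + x 7, -x 4 + x 5 + x 6 - x 7, -x 4 - x 5 + x 6 + x 7, -x 4 + x 5 - x 6 + x 7]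
def fg2 (x : V) : V :=
  ![x 0, x 3, x 1, x 2, x 4 + x 5 + x 6 + x 7, -x 4 + x 5 - x 6 + x 7, -x 4 + x 5 + x 6 - x 7, -x 4 - x 5 + x 6 + x 7]
def fg2i (x : V) : V :=
  ![x 0, x 2, x 3, x 1, x 4 - x 5 - x 6 - x 7, x 4 + x 5 + x 6 - x 7, x 4 - x 5 + x 6 + x 7, x 4 + x 5 - x 6 + x 7]
def fh (x : V) : V := ![x 0, x 1, x 6, -x 7, -x 3, x 2, x 5, x 4]
def fhi (x : V) : V := ![x 0, x 1, x 5, -x 4, x 7, x 6, x 2, -x 3]

theorem p1 : Pair fX1 fX1 where
  add x y := by ext i; fin_cases i <;> simp [fX1] <;> ring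
  smul c x := by ext i; fin_cases i <;> simp [fX1]
  l x := by ext i; fin_cases i <;> simp [fX1]
  r x := by ext i; fin_cases i <;> simp [fX1]

theorem p2 : Pair fX2 fX2 where
  add x y := by ext i; fin_cases i <;> simp [fX2] <;> ring
  smul c x := by ext i; fin_cases i <;> simp [fX2]
  l x := by ext i; fin_cases i <;> simp [fX2]
  r x := by ext i; fin_cases i <;> simp [fX2]

theorem p3 : Pair fX3 fX3 where
  add x y := by ext i; fin_cases i <;> simp [fX3] <;> ring
  smul c x := by ext i; fin_cases i <;> simp [fX3]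
  l x := by ext i; fin_cases i <;> simp [fX3]
  r x := by ext i; fin_cases i <;> simp [fX3]

theorem p4 : Pair fX4 fX4 where
  add x y := by ext i; fin_cases i <;> simp [fX4] <;> ring
  smul c x := by ext i; fin_cases i <;> simp [fX4]
  l x := by ext i; fin_cases i <;> simp [fX4]
  r x := by ext i; fin_cases i <;> simp [fX4]

theorem p5 : Pair fX5 fX5 where
  add x y := by ext i; fin_cases i <;> simp [fX5] <;> ring
  smul c x := by ext i; fin_cases i <;> simp [fX5]
  l x := by ext i; fin_cases i <;> simp [fX5]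
  r x := by ext i; fin_cases i <;> simp [fX5]

theorem p6 : Pair fX6 fX6 where
  add x y := by ext i; fin_cases i <;> simp [fX6] <;> ring
  smul c x := by ext i; fin_cases i <;> simp [fX6]
  l x := by ext i; fin_cases i <;> simp [fX6]
  r x := by ext i; fin_cases i <;> simp [fX6]

theorem ph : Pair fh fhi where
  add x y := by ext i; fin_cases i <;> simp [fh] <;> ring
  smul c x := by ext i; fin_cases i <;> simp [fh]
  l x := by ext i; fin_cases i <;> simp [fh, fhi]
  r x := by ext i; fin_cases i <;> simp [fh, fhi]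

theorem pg1 : Pair fg1 fg1i where
  add x y := by ext i; fin_cases i <;> simp [fg1] <;> ring
  smul c x := by ext i; fin_cases i <;> simp [fg1] <;> ring
  l x := by ext i; fin_cases i <;> simp [fg1, fg1i] <;> ring_nf <;> reduce_mod_char
  r x := by ext i; fin_cases i <;> simp [fg1, fg1i] <;> ring_nf <;> reduce_mod_char

theorem pg2 : Pair fg2 fg2i where
  add x y := by ext i; fin_cases i <;> simp [fg2] <;> ring
  smul c x := by ext i; fin_cases i <;> simp [fg2] <;> ring
  l x := by ext i; fin_cases i <;> simp [fg2, fg2i] <;> ring_nf <;> reduce_mod_char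
  r x := by ext i; fin_cases i <;> simp [fg2, fg2i] <;> ring_nf <;> reduce_mod_char

theorem ex1 : ∃ g : OG, ∀ x, ac g x = fX1 x :=
  p1.exists_el fun x y => by ext i; fin_cases i <;> simp [fX1, oct] <;> ring
theorem ex2 : ∃ g : OG, ∀ x, ac g x = fX2 x :=
  p2.exists_el fun x y => by ext i; fin_cases i <;> simp [fX2, oct] <;> ring
theorem ex3 : ∃ g : OG, ∀ x, ac g x = fX3 x :=
  p3.exists_el fun x y => by ext i; fin_cases i <;> simp [fX3, oct] <;> ring
theorem ex4 : ∃ g : OG, ∀ x, ac g x = fX4 x :=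
  p4.exists_el fun x y => by ext i; fin_cases i <;> simp [fX4, oct] <;> ring
theorem ex5 : ∃ g : OG, ∀ x, ac g x = fX5 x :=
  p5.exists_el fun x y => by ext i; fin_cases i <;> simp [fX5, oct] <;> ring
theorem ex6 : ∃ g : OG, ∀ x, ac g x = fX6 x :=
  p6.exists_el fun x y => by ext i; fin_cases i <;> simp [fX6, oct] <;> ring
theorem exh : ∃ g : OG, ∀ x, ac g x = fh x :=
  ph.exists_el fun x y => by ext i; fin_cases i <;> simp [fh, oct] <;> ring
theorem exg1 : ∃ g : OG, ∀ x, ac g x = fg1 x :=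
  pg1.exists_el fun x y => by
    ext i
    fin_cases i <;> simp [fg1, oct] <;> ring_nf <;> reduce_mod_char <;> ring_nf <;> reduce_mod_char
theorem exg2 : ∃ g : OG, ∀ x, ac g x = fg2 x :=
  pg2.exists_el fun x y => by
    ext i
    fin_cases i <;> simp [fg2, oct] <;> ring_nf <;> reduce_mod_char <;> ring_nf <;> reduce_mod_char

noncomputable def X1 : OG := ex1.choose
noncomputable def X2 : OG := ex2.choose
noncomputable def X3 : OG := ex3.choose
noncomputable def X4 : OG := ex4.choose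
noncomputable def X5 : OG := ex5.choose
noncomputable def X6 : OG := ex6.choose
noncomputable def h : OG := exh.choose
noncomputable def g1 : OG := exg1.choose
noncomputable def g2 : OG := exg2.choose

theorem ac_X1 (x : V) : ac X1 x = fX1 x := ex1.choose_spec x
theorem ac_X2 (x : V) : ac X2 x = fX2 x := ex2.choose_spec x
theorem ac_X3 (x : V) : ac X3 x = fX3 x := ex3.choose_spec x
theorem ac_X4 (x : V) : ac X4 x = fX4 x := ex4.choose_spec x
theorem ac_X5 (x : V) : ac X5 x = fX5 x := ex5.choose_spec x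
theorem ac_X6 (x : V) : ac X6 x = fX6 x := ex6.choose_spec x
theorem ac_h (x : V) : ac h x = fh x := exh.choose_spec x
theorem ac_g1 (x : V) : ac g1 x = fg1 x := exg1.choose_spec x
theorem ac_g2 (x : V) : ac g2 x = fg2 x := exg2.choose_spec x

end Cfsg.Agent.H234.GT
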