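import Cfsg.Agent.H781.Realized
import Cfsg.Agent.H779.G2.Stmts4

/-!
# S5211, `q = 2`: the fusion system over `GU K` of a finite group containing `GU K` as a Sylow `2`-subgroup
-/

set_option autoImplicit false

namespace Cfsg.Agent.H234.GT

open Cfsg Cfsg.FusionSystem Cfsg.Agent.H779.G2 Cfsg.Agent.H781

universe u

/-- the fusion system over `GU K` of a finite group -/
theorem exists_sys {K : Type u} [Field K] {p n : ℕ} [Fact p.Prime] (hK : HypG K p n) {G0 : Type} [Group G0] [Finite G0]
    (φ : GU K →* G0) (inj : Function.Injective φ) (syl : ¬ p ∣ φ.range.index) :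
    ∃ F : FusionSystem (⊤ : Subgroup (GU K)), F.IsSaturated p ∧ F.IsRealizable p ∧
      ∀ (Q : Subgroup (GU K)) (γ : MulAut Q), γ ∈ F.autGroup Q ↔
        ∃ g : G0, ∀ e : Q, φ ((γ e : Q) : GU K) = g * φ (e : GU K) * g⁻¹ := by
  have hp : p.Prime := hK.pp
  have hfinK : Finite K := hK.fin
  have hfinU : Finite (GU K) := inferInstance
  have hpg : IsPGroup p (GU K) := by
    apply IsPGroup.of_card (n := n * 6)
    rw [GU.card_eq, hK.card, pow_mul]
  let ι : (⊤ : Subgroup (GU K)) →* ULift.{u} G0 :=
    (MulEquiv.ulift.symm.toMonoidHom.comp φ).comp (Subgroup.topEquiv (G := GU K)).toMonoidHom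
  have hι : ∀ x : (⊤ : Subgroup (GU K)), ι x = ULift.up (φ (x : GU K)) := fun x => rfl
  have hinj : Function.Injective ι := by
    intro a b hab
    rw [hι, hι] at hab
    exact Subtype.ext (inj (ULift.up_injective hab))
  have hrangep : IsPGroup p ι.range := (hpg.of_equiv (Subgroup.topEquiv (G := GU K)).symm).of_surjective
    ι.rangeRestrict ι.rangeRestrict_surjective
  have hidx : ¬ p ∣ ι.range.index := by
    have h1 : Nat.card ι.range = Nat.card φ.range := by
      rw [← Nat.card_congr (MonoidHom.ofInjective hinj).toEquiv, ← Nat.card_congr (MonoidHom.ofInjective inj).toEquiv]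
      exact Nat.card_congr Subgroup.topEquiv.toEquiv
    have h4 := ι.range.card_mul_index
    rw [h1, Nat.card_congr (MulEquiv.ulift (α := G0)).toEquiv, ← φ.range.card_mul_index] at h4
    rwa [Nat.eq_of_mul_eq_mul_left Nat.card_pos h4]
  let T : Sylow p (ULift.{u} G0) := hrangep.toSylow hidx
  have hT : (T : Subgroup (ULift.{u} G0)) = ι.range := rfl
  have hreal := pullback_isRealizedBy ι hinj
  refine ⟨pullback ι hinj, isSaturated_of_isRealizedBy hreal T hT, ⟨_, inferInstance, inferInstance, ι, hreal, T, hT⟩, ?_⟩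
  intro Q γ
  rw [H802.mem_autGroup_iff _ le_top]
  constructor
  · rintro ⟨h1, h2, g, hg⟩
    exact ⟨g.down, fun e => congrArg ULift.down (hg e)⟩
  · rintro ⟨g, hg⟩
    exact ⟨le_top, fun _ => trivial, ULift.up g, fun e => congrArg ULift.up (hg e)⟩

end Cfsg.Agent.H234.GT
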