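import Cfsg.Agent.H234.GT.Rels
import Cfsg.Agent.H234.GT.Sys
import Cfsg.Agent.H234.GT.Bound

/-!
# S5211, task G2-Q2-G23: `StRG23`, the fusion system of `G₂(3)`
-/

set_option autoImplicit false

namespace Cfsg.Agent.H234.GT

open Cfsg Cfsg.FusionSystem Cfsg.Agent.H779.G2 Cfsg.Agent.H756.PU

universe u v

variable {K : Type u} [Field K]

/-! ### generators and automorphisms -/

theorem Qa_le (h01 : ∀ t : K, t = 0 ∨ t = 1) (N : Subgroup (GU K)) (h2 : (⟨0, 1, 0, 0, 0, 0⟩ : GU K) ∈ N)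
    (h3 : (⟨0, 0, 1, 0, 0, 0⟩ : GU K) ∈ N) (h4 : (⟨0, 0, 0, 1, 0, 0⟩ : GU K) ∈ N) (h5 : (⟨0, 0, 0, 0, 1, 0⟩ : GU K) ∈ N)
    (h6 : (⟨0, 0, 0, 0, 0, 1⟩ : GU K) ∈ N) : Qa K ≤ N := by
  intro x hx
  have hx' : x.a = 0 := hx
  rw [GU.decomp x, hx']
  refine N.mul_mem (N.mul_mem (N.mul_mem (N.mul_mem (N.mul_mem N.one_mem ?_) ?_) ?_) ?_) ?_
  · rcases h01 x.b with h | h <;> rw [h]
    · exact N.one_mem
    · exact h2
  · rcases h01 x.c with h | h <;> rw [h]
    · exact N.one_mem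
    · exact h3
  · rcases h01 x.d with h | h <;> rw [h]
    · exact N.one_mem
    · exact h4
  · rcases h01 x.e with h | h <;> rw [h]
    · exact N.one_mem
    · exact h5
  · rcases h01 x.f with h | h <;> rw [h]
    · exact N.one_mem
    · exact h6

theorem Qb_le (h01 : ∀ t : K, t = 0 ∨ t = 1) (N : Subgroup (GU K)) (h1 : (⟨1, 0, 0, 0, 0, 0⟩ : GU K) ∈ N)
    (h3 : (⟨0, 0, 1, 0, 0, 0⟩ : GU K) ∈ N) (h4 : (⟨0, 0, 0, 1, 0, 0⟩ : GU K) ∈ N) (h5 : (⟨0, 0, 0, 0, 1, 0⟩ : GU K) ∈ N)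
    (h6 : (⟨0, 0, 0, 0, 0, 1⟩ : GU K) ∈ N) : Qb K ≤ N := by
  intro x hx
  have hx' : x.b = 0 := hx
  rw [GU.decomp x, hx']
  refine N.mul_mem (N.mul_mem (N.mul_mem (N.mul_mem (N.mul_mem ?_ N.one_mem) ?_) ?_) ?_) ?_
  · rcases h01 x.a with h | h <;> rw [h]
    · exact N.one_mem
    · exact h1
  · rcases h01 x.c with h | h <;> rw [h]
    · exact N.one_mem
    · exact h3
  · rcases h01 x.d with h | h <;> rw [h]
    · exact N.one_mem
    · exact h4
  · rcases h01 x.e with h | h <;> rw [h]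
    · exact N.one_mem
    · exact h5
  · rcases h01 x.f with h | h <;> rw [h]
    · exact N.one_mem
    · exact h6

theorem normal_Qa : (Qa K).Normal where
  conj_mem x hx g := by
    have hx' : x.a = 0 := hx
    show (g * x * g⁻¹).a = 0
    simp [hx']

theorem normal_Qb : (Qb K).Normal where
  conj_mem x hx g := by
    have hx' : x.b = 0 := hx
    show (g * x * g⁻¹).b = 0
    simp [hx']

/-- the automorphism of `Q` induced by an element of the ambient group -/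
theorem exists_aut {S : Type u} {G : Type v} [Group S] [Finite S] [Group G] (φ : S →* G) (inj : Function.Injective φ)
    (Q : Subgroup S) (g : G) (h : Q ≤ (Q.map φ).comap ((MulAut.conj g).toMonoidHom.comp φ)) :
    ∃ γ : MulAut Q, ∀ e : Q, φ ((γ e : Q) : S) = g * φ (e : S) * g⁻¹ := by
  have h1 : ∀ e : Q, ∃ e' : Q, φ (e' : S) = g * φ (e : S) * g⁻¹ := by
    intro e
    obtain ⟨x, hx, hx'⟩ := h e.2
    exact ⟨⟨x, hx⟩, hx'⟩
  choose f hf using h1
  have hm : ∀ x y : Q, f (x * y) = f x * f y := by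
    intro x y
    apply Subtype.ext
    apply inj
    rw [Subgroup.coe_mul, map_mul, hf, hf, hf, Subgroup.coe_mul, map_mul]
    group
  have hinj : Function.Injective (MonoidHom.mk' f hm) := by
    intro x y hxy
    have h2 : f x = f y := hxy
    have h3 := hf x
    rw [h2, hf y] at h3
    exact Subtype.ext (inj (mul_left_cancel (mul_right_cancel h3)).symm)
  have hbij : Function.Bijective (MonoidHom.mk' f hm) := Finite.injective_iff_bijective.1 hinj
  exact ⟨MulEquiv.ofBijective (MonoidHom.mk' f hm) hbij, hf⟩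

/-- an automorphism of `Q_a` fixes `x₆` -/
theorem aut_x6 (h01 : ∀ t : K, t = 0 ∨ t = 1) (h2 : (1 : K) + 1 = 0) (γ : MulAut (Qa K)) :
    ((γ ⟨⟨0, 0, 0, 0, 0, 1⟩, rfl⟩ : Qa K) : GU K) = ⟨0, 0, 0, 0, 0, 1⟩ := by
  have h4 : (3 : K) = 1 := by rw [show (3 : K) = 1 + 1 + 1 by norm_num, h2, zero_add]
  let x3 : Qa K := ⟨⟨0, 0, 1, 0, 0, 0⟩, rfl⟩
  let x4 : Qa K := ⟨⟨0, 0, 0, 1, 0, 0⟩, rfl⟩
  let x6 : Qa K := ⟨⟨0, 0, 0, 0, 0, 1⟩, rfl⟩
  have h : x4 * x3 = x3 * x4 * x6 := by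
    apply Subtype.ext
    show (⟨0, 0, 0, 1, 0, 0⟩ : GU K) * ⟨0, 0, 1, 0, 0, 0⟩ = ⟨0, 0, 1, 0, 0, 0⟩ * ⟨0, 0, 0, 1, 0, 0⟩ * ⟨0, 0, 0, 0, 0, 1⟩
    ext <;> simp [h4]
  have h' := congrArg γ h
  rw [map_mul, map_mul, map_mul] at h'
  have h'' : ((γ x4 : Qa K) : GU K) * (γ x3 : Qa K) = (γ x3 : Qa K) * (γ x4 : Qa K) * (γ x6 : Qa K) := congrArg Subtype.val h'
  have a3 : ((γ x3 : Qa K) : GU K).a = 0 := (γ x3).2
  have a4 : ((γ x4 : Qa K) : GU K).a = 0 := (γ x4).2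
  have a6 : ((γ x6 : Qa K) : GU K).a = 0 := (γ x6).2
  have kb := congrArg GU.b h''
  have kc := congrArg GU.c h''
  have kd := congrArg GU.d h''
  have ke := congrArg GU.e h''
  simp [a3, a4, a6, add_comm] at kb kc kd ke
  rcases h01 ((γ x6 : Qa K) : GU K).f with hf | hf
  · exfalso
    have h5 : γ x6 = 1 := Subtype.ext (GU.ext a6 kb kc kd ke hf)
    have h6 : x6 = 1 := (MulEquiv.map_eq_one_iff γ).1 h5
    exact one_ne_zero (congrArg (fun t : Qa K => (t : GU K).f) h6)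
  · exact GU.ext a6 kb kc kd ke hf

/-- the centralizer of `Q_a` -/
theorem cent_Qa (h01 : ∀ t : K, t = 0 ∨ t = 1) (h2 : (1 : K) + 1 = 0) {s : GU K}
    (h : ∀ e : GU K, e ∈ Qa K → s * e = e * s) : s = 1 ∨ s = ⟨0, 0, 0, 0, 0, 1⟩ := by
  have h3 : (2 : K) = 0 := by rw [← one_add_one_eq_two, h2]
  have h4 : (3 : K) = 1 := by rw [show (3 : K) = 1 + 1 + 1 by norm_num, h2, zero_add]
  have hb := congrArg GU.f (h ⟨0, 0, 0, 0, 1, 0⟩ rfl)
  have ha := congrArg GU.e (h ⟨0, 0, 0, 1, 0, 0⟩ rfl)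
  have hc := congrArg GU.f (h ⟨0, 0, 0, 1, 0, 0⟩ rfl)
  have hd := congrArg GU.f (h ⟨0, 0, 1, 0, 0, 0⟩ rfl)
  have he := congrArg GU.f (h ⟨0, 1, 0, 0, 0, 0⟩ rfl)
  obtain ⟨a, b, c, d, e, f⟩ := s
  simp [h4, add_comm] at ha hb
  subst ha
  obtain rfl : b = 0 := by linear_combination hb
  simp [h4, add_comm] at hc hd he
  subst hc hd
  obtain rfl : e = 0 := by linear_combination he
  rcases h01 f with rfl | rfl
  · exact Or.inl rfl
  · exact Or.inr rfl

theorem card_conj (hK : HypG K 2 1) : haveI := normal_Qa (K := K)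
    Nat.card (MulAut.conjNormal (G := GU K) (H := Qa K)).range = 32 := by
  obtain ⟨h01, h2⟩ := two_elts hK
  have hn := normal_Qa (K := K)
  have hfin : Finite K := hK.fin
  set c : GU K →* MulAut (Qa K) := MulAut.conjNormal with hc
  have hca : ∀ (s : GU K) (e : Qa K), ((c s e : Qa K) : GU K) = s * e * s⁻¹ := fun s e => rfl
  have hker : ∀ s : GU K, s ∈ c.ker ↔ s = 1 ∨ s = ⟨0, 0, 0, 0, 0, 1⟩ := by
    intro s
    constructor
    · intro hs
      apply cent_Qa h01 h2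
      intro e he
      have h3 := hca s ⟨e, he⟩
      rw [MonoidHom.mem_ker.1 hs] at h3
      exact (eq_mul_inv_iff_mul_eq.1 h3).symm
    · rintro (rfl | rfl)
      · exact c.ker.one_mem
      · rw [MonoidHom.mem_ker]
        ext1 e
        apply Subtype.ext
        rw [hca, mul_inv_eq_iff_eq_mul]
        ext <;> simp [add_comm]
  have h3 : Nat.card c.ker = 2 := by
    rw [Nat.card_eq_two_iff]
    refine ⟨1, ⟨⟨0, 0, 0, 0, 0, 1⟩, (hker _).2 (Or.inr rfl)⟩, ?_, ?_⟩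
    · intro h
      exact zero_ne_one (congrArg (fun t : c.ker => (t : GU K).f) h)
    · ext t
      simp only [Set.mem_insert_iff, Set.mem_singleton_iff, Set.mem_univ, iff_true]
      rcases (hker _).1 t.2 with h | h
      · exact Or.inl (Subtype.ext h)
      · exact Or.inr (Subtype.ext h)
  have h4 := c.ker.card_mul_index
  rw [Subgroup.index_ker, h3, GU.card_eq, hK.card] at h4
  omega

/-- nine divides the order of a subgroup containing two commuting independent elements of order three -/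
theorem nine_dvd {M : Type u} [Group M] [Finite M] {Γ : Subgroup M} {a b : M} (ha : a ∈ Γ) (hb : b ∈ Γ) (ha3 : a ^ 3 = 1)
    (hb3 : b ^ 3 = 1) (hab : Commute a b) (ha1 : a ≠ 1) (h0 : b ≠ 1) (h1 : b ≠ a) (h2 : b ≠ a ^ 2) : 9 ∣ Nat.card Γ := by
  classical
  have hp : Fact (Nat.Prime 3) := ⟨Nat.prime_three⟩
  have oa : orderOf a = 3 := orderOf_eq_prime ha3 ha1
  have ob : orderOf b = 3 := orderOf_eq_prime hb3 h0
  have hcomm : ∀ (m : Subgroup.zpowers a) (n : Subgroup.zpowers b), Commute ((Subgroup.zpowers a).subtype m)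
      ((Subgroup.zpowers b).subtype n) := by
    rintro ⟨_, i, rfl⟩ ⟨_, j, rfl⟩
    exact (hab.zpow_zpow i j)
  have hdis : Disjoint (Subgroup.zpowers a) (Subgroup.zpowers b) := by
    rw [disjoint_iff]
    by_contra hne
    have h3 : Nat.card (Subgroup.zpowers a ⊓ Subgroup.zpowers b : Subgroup M) ∣ Nat.card (Subgroup.zpowers b) :=
      Subgroup.card_dvd_of_le inf_le_right
    rw [Nat.card_zpowers, ob, Nat.dvd_prime Nat.prime_three] at h3
    rcases h3 with h3 | h3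
    · exact hne (Subgroup.card_eq_one.1 h3)
    · have h4 : (Subgroup.zpowers a ⊓ Subgroup.zpowers b : Subgroup M) = Subgroup.zpowers b :=
        Subgroup.eq_of_le_of_card_ge inf_le_right (by rw [h3, Nat.card_zpowers, ob])
      have h5 : b ∈ Subgroup.zpowers a := (inf_eq_right.1 h4) (Subgroup.mem_zpowers b)
      rw [mem_zpowers_iff_mem_range_orderOf, oa] at h5
      simp only [Finset.mem_image, Finset.mem_range] at h5
      obtain ⟨k, hk, hk'⟩ := h5
      interval_cases k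
      · exact h0 (by rw [← hk', pow_zero])
      · exact h1 (by rw [← hk', pow_one])
      · exact h2 hk'.symm
  have hinj : Function.Injective ((Subgroup.zpowers a).subtype.noncommCoprod (Subgroup.zpowers b).subtype hcomm) := by
    rw [MonoidHom.noncommCoprod_injective]
    refine ⟨Subtype.val_injective, Subtype.val_injective, ?_⟩
    rwa [Subgroup.range_subtype, Subgroup.range_subtype]
  have hle : ((Subgroup.zpowers a).subtype.noncommCoprod (Subgroup.zpowers b).subtype hcomm).range ≤ Γ := by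
    rintro _ ⟨⟨x, y⟩, rfl⟩
    rw [MonoidHom.noncommCoprod_apply]
    exact Γ.mul_mem ((Subgroup.zpowers_le.2 ha) x.2) ((Subgroup.zpowers_le.2 hb) y.2)
  have h3 := Subgroup.card_dvd_of_le hle
  rwa [← Nat.card_congr (MonoidHom.ofInjective hinj).toEquiv, Nat.card_prod, Nat.card_zpowers, Nat.card_zpowers, oa, ob]
    at h3

/-! ### induced automorphisms -/

section

variable {S : Type u} {G : Type v} [Group S] [Group G]

/-- `γ` is induced by `g` -/
def Ind (φ : S →* G) {Q : Subgroup S} (γ : MulAut Q) (g : G) : Prop := ∀ e : Q, φ ((γ e : Q) : S) = g * φ (e : S) * g⁻¹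

theorem Ind.mul {φ : S →* G} {Q : Subgroup S} {γ γ' : MulAut Q} {g g' : G} (h : Ind φ γ g) (h' : Ind φ γ' g') :
    Ind φ (γ * γ') (g * g') := by
  intro e
  rw [MulAut.mul_apply, h, h']
  group

theorem Ind.one (φ : S →* G) {Q : Subgroup S} : Ind φ (1 : MulAut Q) 1 := by
  intro e
  rw [MulAut.one_apply, one_mul, inv_one, mul_one]

theorem Ind.unique {φ : S →* G} (inj : Function.Injective φ) {Q : Subgroup S} {γ γ' : MulAut Q} {g : G} (h : Ind φ γ g)
    (h' : Ind φ γ' g) : γ = γ' := by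
  ext1 e
  apply Subtype.ext
  apply inj
  rw [h, h']

theorem Ind.val {φ : S →* G} (inj : Function.Injective φ) {Q : Subgroup S} {γ : MulAut Q} {g : G} (h : Ind φ γ g) {x : S}
    (hx : x ∈ Q) {y : S} (hy : g * φ x = φ y * g) : ((γ ⟨x, hx⟩ : Q) : S) = y := by
  apply inj
  rw [h, hy, mul_inv_cancel_right]

theorem mem_comap (φ : S →* G) (g : G) (Q : Subgroup S) {x y : S} (hy : y ∈ Q) (h : g * φ x = φ y * g) :
    x ∈ (Q.map φ).comap ((MulAut.conj g).toMonoidHom.comp φ) :=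
  ⟨y, hy, by show φ y = g * φ x * g⁻¹; rw [h, mul_inv_cancel_right]⟩

end

theorem X6_ne_one : X6 ≠ 1 := by
  intro h
  have h1 := ac_X6_E4
  rw [h, ac_one] at h1
  have h2 := congrFun h1 4
  revert h2
  simp [E4]
  decide

/-- **S5211, (Q2-G23).** -/
theorem stRG23 : StRG23.{u} := by
  intro K _ _ hK
  obtain ⟨h01, h2⟩ := two_elts hK
  have h3' : (3 : K) = 1 := by rw [show (3 : K) = 1 + 1 + 1 by norm_num, h2, zero_add]
  have hfinK : Finite K := hK.fin
  have hfinG : Finite OG := Nat.finite_of_card_ne_zero (by rw [card_OG]; norm_num)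
  have hfinQ : Finite (MulAut (Qa K)) := Finite.of_injective (fun e : MulAut (Qa K) => (e : Qa K → Qa K))
    (fun a b h => MulEquiv.ext (fun x => congrFun h x))
  set φ : GU K →* OG := emb relX h01 h2 with hφ
  have f1 : φ ⟨1, 0, 0, 0, 0, 0⟩ = X1 := by simp [hφ, emb_apply, ee_one, ee_zero]
  have f2 : φ ⟨0, 1, 0, 0, 0, 0⟩ = X2 := by simp [hφ, emb_apply, ee_one, ee_zero]
  have f3 : φ ⟨0, 0, 1, 0, 0, 0⟩ = X3 := by simp [hφ, emb_apply, ee_one, ee_zero]
  have f4 : φ ⟨0, 0, 0, 1, 0, 0⟩ = X4 := by simp [hφ, emb_apply, ee_one, ee_zero]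
  have f5 : φ ⟨0, 0, 0, 0, 1, 0⟩ = X5 := by simp [hφ, emb_apply, ee_one, ee_zero]
  have f6 : φ ⟨0, 0, 0, 0, 0, 1⟩ = X6 := by simp [hφ, emb_apply, ee_one, ee_zero]
  have f35 : φ ⟨0, 0, 1, 0, 1, 0⟩ = X3 * X5 := by simp [hφ, emb_apply, ee_one, ee_zero]
  have f2345 : φ ⟨0, 1, 1, 1, 1, 0⟩ = X2 * X3 * X4 * X5 := by simp [hφ, emb_apply, ee_one, ee_zero]
  have f236 : φ ⟨0, 1, 1, 0, 0, 1⟩ = X2 * X3 * X6 := by simp [hφ, emb_apply, ee_one, ee_zero]
  have f24 : φ ⟨0, 1, 0, 1, 0, 0⟩ = X2 * X4 := by simp [hφ, emb_apply, ee_one, ee_zero]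
  have f1345 : φ ⟨1, 0, 1, 1, 1, 0⟩ = X1 * X3 * X4 * X5 := by simp [hφ, emb_apply, ee_one, ee_zero]
  have f56 : φ ⟨0, 0, 0, 0, 1, 1⟩ = X5 * X6 := by simp [hφ, emb_apply, ee_one, ee_zero]
  have inj : Function.Injective φ := injective_of h01 h2 φ (by rw [f6]; exact X6_ne_one)
  have syl : ¬ 2 ∣ φ.range.index := by
    have h1 : Nat.card φ.range = 64 := by
      rw [← Nat.card_congr (MonoidHom.ofInjective inj).toEquiv, GU.card_eq, hK.card]
      norm_num
    have h3 := φ.range.card_mul_index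
    rw [h1, card_OG] at h3
    omega
  obtain ⟨F, hsat, hreal, haut⟩ := exists_sys hK φ inj syl
  refine ⟨F, hsat, hreal, ?_, ?_⟩
  · have hn := normal_Qa (K := K)
    set Γ := F.autGroup (Qa K) with hΓ
    -- the lower bound
    have h32 : 32 ∣ Nat.card Γ := by
      rw [← card_conj hK]
      apply Subgroup.card_dvd_of_le
      rintro _ ⟨s, rfl⟩
      rw [hΓ, haut]
      refine ⟨φ s, fun e => ?_⟩
      rw [← map_inv, ← map_mul, ← map_mul]
      rfl
    obtain ⟨a, ha⟩ := exists_aut φ inj (Qa K) g1 (Qa_le h01 _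
      (mem_comap φ g1 _ (y := ⟨0, 0, 1, 0, 1, 0⟩) rfl (by rw [f2, f35, g1_2]))
      (mem_comap φ g1 _ (y := ⟨0, 1, 1, 1, 1, 0⟩) rfl (by rw [f3, f2345, g1_3]))
      (mem_comap φ g1 _ (y := ⟨0, 0, 1, 0, 0, 0⟩) rfl (by rw [f4, f3, g1_4]))
      (mem_comap φ g1 _ (y := ⟨0, 1, 1, 0, 0, 1⟩) rfl (by rw [f5, f236, g1_5]))
      (mem_comap φ g1 _ (y := ⟨0, 0, 0, 0, 0, 1⟩) rfl (by rw [f6, g1_6])))
    obtain ⟨b, hb⟩ := exists_aut φ inj (Qa K) g2 (Qa_le h01 _
      (mem_comap φ g2 _ (y := ⟨0, 1, 1, 1, 1, 0⟩) rfl (by rw [f2, f2345, g2_2]))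
      (mem_comap φ g2 _ (y := ⟨0, 1, 0, 1, 0, 0⟩) rfl (by rw [f3, f24, g2_3]))
      (mem_comap φ g2 _ (y := ⟨0, 1, 1, 0, 0, 1⟩) rfl (by rw [f4, f236, g2_4]))
      (mem_comap φ g2 _ (y := ⟨0, 1, 0, 0, 0, 0⟩) rfl (by rw [f5, f2, g2_5]))
      (mem_comap φ g2 _ (y := ⟨0, 0, 0, 0, 0, 1⟩) rfl (by rw [f6, g2_6])))
    have ha' : Ind φ a g1 := ha
    have hb' : Ind φ b g2 := hb
    have a3 : a ^ 3 = 1 := by
      rw [pow_succ, pow_two]
      have h1 := (ha'.mul ha').mul ha'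
      rw [g1_pow] at h1
      exact h1.unique inj (Ind.one φ)
    have b3 : b ^ 3 = 1 := by
      rw [pow_succ, pow_two]
      have h1 := (hb'.mul hb').mul hb'
      rw [g2_pow] at h1
      exact h1.unique inj (Ind.one φ)
    have hab : Commute a b := by
      have h1 := ha'.mul hb'
      rw [g1_g2] at h1
      exact h1.unique inj (hb'.mul ha')
    let x4 : Qa K := ⟨⟨0, 0, 0, 1, 0, 0⟩, rfl⟩
    have va : ((a x4 : Qa K) : GU K) = ⟨0, 0, 1, 0, 0, 0⟩ := ha'.val inj rfl (by rw [f4, f3, g1_4])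
    have vb : ((b x4 : Qa K) : GU K) = ⟨0, 1, 1, 0, 0, 1⟩ := hb'.val inj rfl (by rw [f4, f236, g2_4])
    have vaa : (((a ^ 2) x4 : Qa K) : GU K) = ⟨0, 1, 1, 1, 1, 0⟩ := by
      rw [pow_two, MulAut.mul_apply]
      have h1 : a x4 = ⟨⟨0, 0, 1, 0, 0, 0⟩, rfl⟩ := Subtype.ext va
      rw [h1]
      exact ha'.val inj rfl (by rw [f3, f2345, g1_3])
    have h9 : 9 ∣ Nat.card Γ := by
      refine nine_dvd (a := a) (b := b) ((haut _ _).2 ⟨g1, ha⟩) ((haut _ _).2 ⟨g2, hb⟩) a3 b3 hab ?_ ?_ ?_ ?_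
      · intro h
        rw [h] at va
        exact one_ne_zero (congrArg GU.d va)
      · intro h
        rw [h] at vb
        exact one_ne_zero (congrArg GU.d vb)
      · intro h
        rw [h, va] at vb
        exact zero_ne_one (congrArg GU.b vb)
      · intro h
        rw [h, vaa] at vb
        exact one_ne_zero (congrArg GU.d vb)
    -- the upper bound
    have hex : ∀ γ : Γ, ∃ g : OG, Ind φ (γ : MulAut (Qa K)) g := fun γ => (haut _ _).1 γ.2
    choose k hk using hex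
    have hx6 : ∀ γ : Γ, k γ * X6 = X6 * k γ := by
      intro γ
      have h1 := hk γ ⟨⟨0, 0, 0, 0, 0, 1⟩, rfl⟩
      rw [aut_x6 h01 h2, f6] at h1
      exact (eq_mul_inv_iff_mul_eq.1 h1).symm
    let z : Bool → OG := fun t => cond t X6 1
    have hz : ∀ (t : Bool) (e : Qa K), z t * φ (e : GU K) = φ (e : GU K) * z t := by
      rintro (_ | _) e
      · show 1 * _ = _ * 1
        rw [one_mul, mul_one]
      · show X6 * _ = _ * X6
        rw [← f6, ← map_mul, ← map_mul]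
        congr 1
        ext <;> simp [add_comm]
    let Φ : Γ × Bool → {g : OG // g * X6 = X6 * g} := fun p => ⟨k p.1 * z p.2, by
      obtain ⟨γ, _ | _⟩ := p
      · show k γ * 1 * X6 = X6 * (k γ * 1)
        rw [mul_one, hx6]
      · show k γ * X6 * X6 = X6 * (k γ * X6)
        rw [hx6, mul_assoc, hx6]⟩
    have hΦ : Function.Injective Φ := by
      rintro ⟨γ, s⟩ ⟨γ', t⟩ h
      have h1 : k γ * z s = k γ' * z t := congrArg Subtype.val h
      have h2 : γ = γ' := by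
        apply Subtype.ext
        ext1 e
        apply Subtype.ext
        apply inj
        have h3 : ∀ (δ : Γ) (t : Bool), φ (((δ : MulAut (Qa K)) e : Qa K) : GU K) = (k δ * z t) * φ (e : GU K) * (k δ * z t)⁻¹ := by
          intro δ t
          rw [hk δ, mul_assoc (k δ) (z t), hz]
          group
        rw [h3 γ s, h3 γ' t, h1]
      subst h2
      have h3 := mul_left_cancel h1
      rcases s with _ | _ <;> rcases t with _ | _
      · rfl
      · exact absurd h3.symm X6_ne_one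
      · exact absurd h3 X6_ne_one
      · rfl
    have h4 := Nat.card_le_card_of_injective Φ hΦ
    rw [Nat.card_prod, Nat.card_eq_fintype_card (α := Bool), Fintype.card_bool] at h4
    have h5 := h4.trans card_cent
    have h6 : 0 < Nat.card Γ := Nat.card_pos
    omega
  · intro hnn
    have hn := normal_Qb (K := K)
    obtain ⟨c, hc⟩ := exists_aut φ inj (Qb K) h (Qb_le h01 _
      (mem_comap φ h _ (y := ⟨0, 0, 0, 1, 0, 0⟩) rfl (by rw [f1, f4, h_1]))
      (mem_comap φ h _ (y := ⟨0, 0, 1, 0, 0, 0⟩) rfl (by rw [f3, h_3]))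
      (mem_comap φ h _ (y := ⟨1, 0, 1, 1, 1, 0⟩) rfl (by rw [f4, f1345, h_4]))
      (mem_comap φ h _ (y := ⟨0, 0, 0, 0, 1, 1⟩) rfl (by rw [f5, f56, h_5]))
      (mem_comap φ h _ (y := ⟨0, 0, 0, 0, 1, 0⟩) rfl (by rw [f6, f5, h_6])))
    have hc' : Ind φ c h := hc
    let x6 : Qb K := ⟨⟨0, 0, 0, 0, 0, 1⟩, rfl⟩
    let w : Qb K := ⟨⟨0, 0, 0, 0, 1, 1⟩, rfl⟩
    have hw : c w = x6 := by
      apply Subtype.ext
      apply hc'.val inj rfl
      rw [f56, f6, ← mul_assoc, h_5, mul_assoc, mul_assoc, h_6, ← mul_assoc X6, relX.r65, mul_assoc X5, ← mul_assoc X5,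
        relX.s5, one_mul]
    let y : MulAut (Qb K) := MulAut.conjNormal (⟨0, 1, 0, 0, 0, 0⟩ : GU K)
    have hy : y ∈ autInducedBy ⊤ (Qb K) := Subgroup.subset_closure ⟨⟨0, 1, 0, 0, 0, 0⟩, trivial, fun _ => rfl⟩
    have h5 := hnn c ((haut _ _).2 ⟨h, hc⟩) y hy
    have h6 : autInducedBy ⊤ (Qb K) ≤ MulAction.stabilizer (MulAut (Qb K)) x6 := by
      rw [autInducedBy, Subgroup.closure_le]
      rintro α ⟨s, -, hs⟩
      show α x6 = x6
      apply Subtype.ext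
      rw [hs, mul_inv_eq_iff_eq_mul]
      show s * ⟨0, 0, 0, 0, 0, 1⟩ = ⟨0, 0, 0, 0, 0, 1⟩ * s
      ext <;> simp [add_comm]
    have h7 : (c * y * c⁻¹) x6 = x6 := h6 h5
    rw [MulAut.mul_apply, MulAut.mul_apply, ← hw, MulAut.inv_apply_self] at h7
    have h8 : y w = w := c.injective h7
    have h9 : (⟨0, 1, 0, 0, 0, 0⟩ : GU K) * ⟨0, 0, 0, 0, 1, 1⟩ * (⟨0, 1, 0, 0, 0, 0⟩ : GU K)⁻¹ = ⟨0, 0, 0, 0, 1, 1⟩ :=
      congrArg Subtype.val h8
    rw [mul_inv_eq_iff_eq_mul] at h9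
    have h10 := congrArg GU.f h9
    simp at h10

end Cfsg.Agent.H234.GT
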