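import Cfsg.Agent.H638.G2Iso

/-!
# S5211, task G2-Q2-G23: the automorphism group of the octonions over `F₃` in an orthonormal basis

`OG` is the automorphism group of the algebra with basis `e₀, …, e₇`, `e_i e_j = ± e_{i xor j}`, over `F₃`; it is isomorphic to
`G₂(3)` and has order `64 · 66339`.
-/

set_option autoImplicit false

namespace Cfsg.Agent.H234.GT

open Cfsg.Lie Matrix

/-- vectors -/
abbrev V : Type := Fin 8 → ZMod 3

/-- the multiplication of the octonions -/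
def oct (x y : V) : V :=
  ![x 0 * y 0 - x 1 * y 1 - x 2 * y 2 - x 3 * y 3 - x 4 * y 4 - x 5 * y 5 - x 6 * y 6 - x 7 * y 7,
    x 0 * y 1 + x 1 * y 0 + x 2 * y 3 - x 3 * y 2 + x 4 * y 5 - x 5 * y 4 - x 6 * y 7 + x 7 * y 6,
    x 0 * y 2 - x 1 * y 3 + x 2 * y 0 + x 3 * y 1 + x 4 * y 6 + x 5 * y 7 - x 6 * y 4 - x 7 * y 5,
    x 0 * y 3 + x 1 * y 2 - x 2 * y 1 + x 3 * y 0 + x 4 * y 7 - x 5 * y 6 + x 6 * y 5 - x 7 * y 4,
    x 0 * y 4 - x 1 * y 5 - x 2 * y 6 - x 3 * y 7 + x 4 * y 0 + x 5 * y 1 + x 6 * y 2 + x 7 * y 3,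
    x 0 * y 5 + x 1 * y 4 - x 2 * y 7 + x 3 * y 6 - x 4 * y 1 + x 5 * y 0 - x 6 * y 3 + x 7 * y 2,
    x 0 * y 6 + x 1 * y 7 + x 2 * y 4 - x 3 * y 5 - x 4 * y 2 + x 5 * y 3 + x 6 * y 0 - x 7 * y 1,
    x 0 * y 7 - x 1 * y 6 + x 2 * y 5 + x 3 * y 4 - x 4 * y 3 - x 5 * y 2 + x 6 * y 1 + x 7 * y 0]

/-- the automorphism group of the octonions over `F₃` -/
abbrev OG : Subgroup (GL (Fin 8) (ZMod 3)) := mulAut (ZMod 3) oct

/-- the action on vectors -/
def ac (g : OG) (x : V) : V := ((g : GL (Fin 8) (ZMod 3)) : Matrix (Fin 8) (Fin 8) (ZMod 3)) *ᵥ x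

theorem ac_mul (g h : OG) (x : V) : ac (g * h) x = ac g (ac h x) := by
  rw [ac, ac, ac, Matrix.mulVec_mulVec]
  rfl

theorem ac_one (x : V) : ac (1 : OG) x = x := Matrix.one_mulVec x

theorem ac_ext {g h : OG} (H : ∀ x, ac g x = ac h x) : g = h := by
  apply Subtype.ext
  apply Units.ext
  exact Matrix.ext_of_mulVec_single fun i => H _

theorem ac_add (g : OG) (x y : V) : ac g (x + y) = ac g x + ac g y := Matrix.mulVec_add _ _ _

theorem ac_smul (g : OG) (c : ZMod 3) (x : V) : ac g (c • x) = c • ac g x := Matrix.mulVec_smul _ _ _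

theorem ac_neg (g : OG) (x : V) : ac g (-x) = -ac g x := Matrix.mulVec_neg _ _

theorem ac_oct (g : OG) (x y : V) : ac g (oct x y) = oct (ac g x) (ac g y) := g.2 x y

theorem ac_inv_ac (g : OG) (x : V) : ac g⁻¹ (ac g x) = x := by
  rw [← ac_mul, inv_mul_cancel, ac_one]

theorem ac_ac_inv (g : OG) (x : V) : ac g (ac g⁻¹ x) = x := by
  rw [← ac_mul, mul_inv_cancel, ac_one]

/-! ### the isomorphism with `G₂(3)` -/

/-- the base change -/
def bc (x : V) : V :=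
  ![x 0 + x 6 - x 7, x 1 + x 6 + x 7, x 2 + x 4 - x 5, -x 3 + x 4 + x 5, -x 1 + x 6 + x 7, -x 2 + x 4 - x 5, x 3 + x 4 + x 5,
    x 0 - x 6 + x 7]

/-- the inverse of the base change -/
def bci (x : V) : V :=
  ![-x 0 - x 7, -x 1 + x 4, -x 2 + x 5, x 3 - x 6, x 2 + x 3 + x 5 + x 6, -x 2 + x 3 - x 5 + x 6, x 0 + x 1 + x 4 - x 7,
    -x 0 + x 1 + x 4 + x 7]

theorem three : (3 : ZMod 3) = 0 := rfl

theorem bc_bci (x : V) : bc (bci x) = x := by
  ext i
  fin_cases i <;> simp [bc, bci] <;> ring_nf <;> reduce_mod_char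

theorem bci_bc (x : V) : bci (bc x) = x := by
  ext i
  fin_cases i <;> simp [bc, bci] <;> ring_nf <;> reduce_mod_char <;> ring_nf <;> reduce_mod_char

theorem bc_oct (x y : V) : bc (oct x y) = zornMul (bc x) (bc y) := by
  ext i
  fin_cases i <;> simp [bc, oct, zornMul, zA, zB, dot3, cross3] <;> ring_nf <;> reduce_mod_char <;> ring_nf <;> reduce_mod_char

/-- a linear map with an inverse -/
structure Pair (f f' : V → V) : Prop where
  add : ∀ x y, f (x + y) = f x + f y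
  smul : ∀ (c : ZMod 3) (x : V), f (c • x) = c • f x
  l : ∀ x, f' (f x) = x
  r : ∀ x, f (f' x) = x

theorem Pair.exists_unit {f f' : V → V} (h : Pair f f') :
    ∃ g : GL (Fin 8) (ZMod 3), ∀ x : V, (g : Matrix (Fin 8) (Fin 8) (ZMod 3)) *ᵥ x = f x := by
  let e : V ≃ₗ[ZMod 3] V :=
    { toFun := f, map_add' := h.add, map_smul' := h.smul, invFun := f', left_inv := h.l, right_inv := h.r }
  refine ⟨⟨LinearMap.toMatrix' (e : V →ₗ[ZMod 3] V), LinearMap.toMatrix' (e.symm : V →ₗ[ZMod 3] V), ?_, ?_⟩, fun x => ?_⟩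
  · rw [← LinearMap.toMatrix'_comp, LinearEquiv.comp_symm, LinearMap.toMatrix'_id]
  · rw [← LinearMap.toMatrix'_comp, LinearEquiv.symm_comp, LinearMap.toMatrix'_id]
  · show LinearMap.toMatrix' (e : V →ₗ[ZMod 3] V) *ᵥ x = f x
    rw [← Matrix.toLin'_apply, Matrix.toLin'_toMatrix']
    rfl

/-- existence of elements of `OG` -/
theorem Pair.exists_el {f f' : V → V} (h : Pair f f') (hm : ∀ x y, f (oct x y) = oct (f x) (f y)) :
    ∃ g : OG, ∀ x, ac g x = f x := by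
  obtain ⟨g, hg⟩ := h.exists_unit
  refine ⟨⟨g, fun x y => ?_⟩, fun x => hg x⟩
  have h1 : ∀ x : V, (Units.coeHom (Matrix (Fin 8) (Fin 8) (ZMod 3)) g) *ᵥ x = f x := hg
  rw [h1, h1, h1, hm]

theorem pair_bc : Pair bc bci where
  add x y := by ext i; fin_cases i <;> simp [bc] <;> ring
  smul c x := by ext i; fin_cases i <;> simp [bc] <;> ring
  l := bci_bc
  r := bc_bci

theorem card_OG : Nat.card OG = 4245696 := by
  obtain ⟨P, hP⟩ := pair_bc.exists_unit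
  have hP1 : ∀ x : V, ((P⁻¹ : GL (Fin 8) (ZMod 3)) : Matrix (Fin 8) (Fin 8) (ZMod 3)) *ᵥ bc x = x := fun x => by
    rw [← hP, Matrix.mulVec_mulVec, ← Units.val_mul, inv_mul_cancel, Units.val_one, Matrix.one_mulVec]
  have key : ∀ g : GL (Fin 8) (ZMod 3), g ∈ OG ↔ (MulAut.conj P).toEquiv g ∈ Cfsg.Lie.G2 (ZMod 3) := by
    intro g
    have h1 : ∀ x : V, (Units.coeHom (Matrix (Fin 8) (Fin 8) (ZMod 3)) ((MulAut.conj P).toEquiv g)) *ᵥ bc x =
        bc ((g : Matrix (Fin 8) (Fin 8) (ZMod 3)) *ᵥ x) := by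
      intro x
      show ((P * g * P⁻¹ : GL (Fin 8) (ZMod 3)) : Matrix (Fin 8) (Fin 8) (ZMod 3)) *ᵥ bc x = _
      rw [Units.val_mul, Units.val_mul, ← Matrix.mulVec_mulVec, hP1, ← Matrix.mulVec_mulVec, hP]
    constructor
    · intro hg x y
      rw [← bc_bci x, ← bc_bci y, ← bc_oct, h1, h1, h1, ← bc_oct]
      exact congrArg bc (hg _ _)
    · intro hg x y
      have h2 := hg (bc x) (bc y)
      rw [← bc_oct, h1, h1, h1, ← bc_oct] at h2
      have h3 := congrArg bci h2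
      rwa [bci_bc, bci_bc] at h3
  have h1 : Nat.card OG = Nat.card (Cfsg.Lie.G2 (ZMod 3)) := Nat.card_congr ((MulAut.conj P).toEquiv.subtypeEquiv key)
  rw [h1, Cfsg.Agent.H638.G2Iso.card_G2, Nat.card_zmod]
  norm_num

end Cfsg.Agent.H234.GT
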