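import Cfsg.Agent.H779.G2.Stmts4

/-!
# S5211, `q = 2`: homomorphisms from `GU K`, `|K| = 2`, to a group, from the images of the root elements
-/

set_option autoImplicit false
set_option linter.unusedSimpArgs false

namespace Cfsg.Agent.H234.GT

open Cfsg Cfsg.Agent.H779.G2

universe u v

/-- the relations between the root elements of `GU K`, `|K| = 2` -/
structure Rel {G : Type v} [Group G] (A1 A2 A3 A4 A5 A6 : G) : Prop where
  s1 : A1 * A1 = 1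
  s2 : A2 * A2 = 1
  s3 : A3 * A3 = 1
  s4 : A4 * A4 = 1
  s5 : A5 * A5 = 1
  s6 : A6 * A6 = 1
  r21 : A2 * A1 = A1 * (A2 * (A3 * (A4 * (A5 * A6))))
  r31 : A3 * A1 = A1 * (A3 * (A5 * A6))
  r41 : A4 * A1 = A1 * (A4 * A5)
  r51 : A5 * A1 = A1 * A5
  r61 : A6 * A1 = A1 * A6
  r32 : A3 * A2 = A2 * A3
  r42 : A4 * A2 = A2 * A4
  r52 : A5 * A2 = A2 * (A5 * A6)
  r62 : A6 * A2 = A2 * A6
  r43 : A4 * A3 = A3 * (A4 * A6)
  r53 : A5 * A3 = A3 * A5
  r63 : A6 * A3 = A3 * A6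
  r54 : A5 * A4 = A4 * A5
  r64 : A6 * A4 = A4 * A6
  r65 : A6 * A5 = A5 * A6

section

variable {K : Type u} [Field K] {G : Type v} [Group G]

open Classical in
/-- `A` to the power `t` -/
noncomputable def ee (A : G) (t : K) : G := if t = 0 then 1 else A

theorem ee_zero (A : G) : ee A (0 : K) = 1 := if_pos rfl

theorem ee_one (A : G) : ee A (1 : K) = A := if_neg one_ne_zero

/-- the homomorphism -/
noncomputable def em (A1 A2 A3 A4 A5 A6 : G) (x : GU K) : G :=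
  ee A1 x.a * ee A2 x.b * ee A3 x.c * ee A4 x.d * ee A5 x.e * ee A6 x.f

variable {A1 A2 A3 A4 A5 A6 : G}

theorem aux {a b c : G} (h : a * b = c) (t : G) : a * (b * t) = c * t := by rw [← mul_assoc, h]

theorem em_step1 (hA : Rel A1 A2 A3 A4 A5 A6) (h01 : ∀ t : K, t = 0 ∨ t = 1) (h2 : (1 : K) + 1 = 0) (x : GU K) :
    em A1 A2 A3 A4 A5 A6 (x * ⟨1, 0, 0, 0, 0, 0⟩) = em A1 A2 A3 A4 A5 A6 x * A1 := by
  obtain ⟨s1, s2, s3, s4, s5, s6, r21, r31, r41, r51, r61, r32, r42, r52, r62, r43, r53, r63, r54, r64, r65⟩ := hA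
  obtain ⟨a, b, c, d, e, f⟩ := x
  have h3 : (2 : K) = 0 := by rw [← one_add_one_eq_two, h2]
  have h4 : (3 : K) = 1 := by rw [show (3 : K) = 1 + 1 + 1 by norm_num, h2, zero_add]
  have h5 : (-1 : K) = 1 := by rw [neg_eq_iff_add_eq_zero, h2]
  rcases h01 a with rfl | rfl <;> rcases h01 b with rfl | rfl <;> rcases h01 c with rfl | rfl <;> rcases h01 d with rfl | rfl <;> rcases h01 e with rfl | rfl <;> rcases h01 f with rfl | rfl <;>
  simp [em, ee_zero, ee_one, h2, h3, h4, h5, mul_assoc, s1, r21, r31, r41, r51, r61, s2, r32, r42, r52, r62, s3,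
    r43, r53, r63, s4, r54, r64, s5, r65, s6, aux s1, aux r21, aux r31, aux r41, aux r51, aux r61, aux s2, aux
    r32, aux r42, aux r52, aux r62, aux s3, aux r43, aux r53, aux r63, aux s4, aux r54, aux r64, aux s5, aux r65,
    aux s6]

theorem em_step2 (hA : Rel A1 A2 A3 A4 A5 A6) (h01 : ∀ t : K, t = 0 ∨ t = 1) (h2 : (1 : K) + 1 = 0) (x : GU K) :
    em A1 A2 A3 A4 A5 A6 (x * ⟨0, 1, 0, 0, 0, 0⟩) = em A1 A2 A3 A4 A5 A6 x * A2 := by
  obtain ⟨s1, s2, s3, s4, s5, s6, r21, r31, r41, r51, r61, r32, r42, r52, r62, r43, r53, r63, r54, r64, r65⟩ := hA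
  obtain ⟨a, b, c, d, e, f⟩ := x
  have h3 : (2 : K) = 0 := by rw [← one_add_one_eq_two, h2]
  have h4 : (3 : K) = 1 := by rw [show (3 : K) = 1 + 1 + 1 by norm_num, h2, zero_add]
  have h5 : (-1 : K) = 1 := by rw [neg_eq_iff_add_eq_zero, h2]
  rcases h01 b with rfl | rfl <;> rcases h01 c with rfl | rfl <;> rcases h01 d with rfl | rfl <;> rcases h01 e with rfl | rfl <;> rcases h01 f with rfl | rfl <;>
  simp [em, ee_zero, ee_one, h2, h3, h4, h5, mul_assoc, s2, r32, r42, r52, r62, s3, r43, r53, r63, s4, r54, r64,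
    s5, r65, s6, aux s2, aux r32, aux r42, aux r52, aux r62, aux s3, aux r43, aux r53, aux r63, aux s4, aux r54,
    aux r64, aux s5, aux r65, aux s6]

theorem em_step3 (hA : Rel A1 A2 A3 A4 A5 A6) (h01 : ∀ t : K, t = 0 ∨ t = 1) (h2 : (1 : K) + 1 = 0) (x : GU K) :
    em A1 A2 A3 A4 A5 A6 (x * ⟨0, 0, 1, 0, 0, 0⟩) = em A1 A2 A3 A4 A5 A6 x * A3 := by
  obtain ⟨s1, s2, s3, s4, s5, s6, r21, r31, r41, r51, r61, r32, r42, r52, r62, r43, r53, r63, r54, r64, r65⟩ := hA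
  obtain ⟨a, b, c, d, e, f⟩ := x
  have h3 : (2 : K) = 0 := by rw [← one_add_one_eq_two, h2]
  have h4 : (3 : K) = 1 := by rw [show (3 : K) = 1 + 1 + 1 by norm_num, h2, zero_add]
  have h5 : (-1 : K) = 1 := by rw [neg_eq_iff_add_eq_zero, h2]
  rcases h01 c with rfl | rfl <;> rcases h01 d with rfl | rfl <;> rcases h01 e with rfl | rfl <;> rcases h01 f with rfl | rfl <;>
  simp [em, ee_zero, ee_one, h2, h3, h4, h5, mul_assoc, s3, r43, r53, r63, s4, r54, r64, s5, r65, s6, aux s3,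
    aux r43, aux r53, aux r63, aux s4, aux r54, aux r64, aux s5, aux r65, aux s6]

theorem em_step4 (hA : Rel A1 A2 A3 A4 A5 A6) (h01 : ∀ t : K, t = 0 ∨ t = 1) (h2 : (1 : K) + 1 = 0) (x : GU K) :
    em A1 A2 A3 A4 A5 A6 (x * ⟨0, 0, 0, 1, 0, 0⟩) = em A1 A2 A3 A4 A5 A6 x * A4 := by
  obtain ⟨s1, s2, s3, s4, s5, s6, r21, r31, r41, r51, r61, r32, r42, r52, r62, r43, r53, r63, r54, r64, r65⟩ := hA
  obtain ⟨a, b, c, d, e, f⟩ := x
  have h3 : (2 : K) = 0 := by rw [← one_add_one_eq_two, h2]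
  have h4 : (3 : K) = 1 := by rw [show (3 : K) = 1 + 1 + 1 by norm_num, h2, zero_add]
  have h5 : (-1 : K) = 1 := by rw [neg_eq_iff_add_eq_zero, h2]
  rcases h01 d with rfl | rfl <;> rcases h01 e with rfl | rfl <;> rcases h01 f with rfl | rfl <;>
  simp [em, ee_zero, ee_one, h2, h3, h4, h5, mul_assoc, s4, r54, r64, s5, r65, s6, aux s4, aux r54, aux r64, aux
    s5, aux r65, aux s6]

theorem em_step5 (hA : Rel A1 A2 A3 A4 A5 A6) (h01 : ∀ t : K, t = 0 ∨ t = 1) (h2 : (1 : K) + 1 = 0) (x : GU K) :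
    em A1 A2 A3 A4 A5 A6 (x * ⟨0, 0, 0, 0, 1, 0⟩) = em A1 A2 A3 A4 A5 A6 x * A5 := by
  obtain ⟨s1, s2, s3, s4, s5, s6, r21, r31, r41, r51, r61, r32, r42, r52, r62, r43, r53, r63, r54, r64, r65⟩ := hA
  obtain ⟨a, b, c, d, e, f⟩ := x
  have h3 : (2 : K) = 0 := by rw [← one_add_one_eq_two, h2]
  have h4 : (3 : K) = 1 := by rw [show (3 : K) = 1 + 1 + 1 by norm_num, h2, zero_add]
  have h5 : (-1 : K) = 1 := by rw [neg_eq_iff_add_eq_zero, h2]
  rcases h01 e with rfl | rfl <;> rcases h01 f with rfl | rfl <;>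
  simp [em, ee_zero, ee_one, h2, h3, h4, h5, mul_assoc, s5, r65, s6, aux s5, aux r65, aux s6]

theorem em_step6 (hA : Rel A1 A2 A3 A4 A5 A6) (h01 : ∀ t : K, t = 0 ∨ t = 1) (h2 : (1 : K) + 1 = 0) (x : GU K) :
    em A1 A2 A3 A4 A5 A6 (x * ⟨0, 0, 0, 0, 0, 1⟩) = em A1 A2 A3 A4 A5 A6 x * A6 := by
  obtain ⟨s1, s2, s3, s4, s5, s6, r21, r31, r41, r51, r61, r32, r42, r52, r62, r43, r53, r63, r54, r64, r65⟩ := hA
  obtain ⟨a, b, c, d, e, f⟩ := x
  have h3 : (2 : K) = 0 := by rw [← one_add_one_eq_two, h2]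
  have h4 : (3 : K) = 1 := by rw [show (3 : K) = 1 + 1 + 1 by norm_num, h2, zero_add]
  have h5 : (-1 : K) = 1 := by rw [neg_eq_iff_add_eq_zero, h2]
  rcases h01 f with rfl | rfl <;>
  simp [em, ee_zero, ee_one, h2, h3, h4, h5, mul_assoc, s6, aux s6]

theorem em_ee (h01 : ∀ t : K, t = 0 ∨ t = 1) (x : GU K) (A : G) (v : K → GU K) (h0 : v 0 = 1)
    (h : em A1 A2 A3 A4 A5 A6 (x * v 1) = em A1 A2 A3 A4 A5 A6 x * A) (t : K) :
    em A1 A2 A3 A4 A5 A6 (x * v t) = em A1 A2 A3 A4 A5 A6 x * ee A t := by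
  rcases h01 t with rfl | rfl
  · rw [h0, mul_one, ee_zero, mul_one]
  · rw [h, ee_one]

theorem GU.decomp (y : GU K) : y = ⟨y.a, 0, 0, 0, 0, 0⟩ * ⟨0, y.b, 0, 0, 0, 0⟩ * ⟨0, 0, y.c, 0, 0, 0⟩ * ⟨0, 0, 0, y.d, 0, 0⟩ *
    ⟨0, 0, 0, 0, y.e, 0⟩ * ⟨0, 0, 0, 0, 0, y.f⟩ := by
  ext <;> simp

theorem em_mul (hA : Rel A1 A2 A3 A4 A5 A6) (h01 : ∀ t : K, t = 0 ∨ t = 1) (h2 : (1 : K) + 1 = 0) (x y : GU K) :
    em A1 A2 A3 A4 A5 A6 (x * y) = em A1 A2 A3 A4 A5 A6 x * em A1 A2 A3 A4 A5 A6 y := by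
  conv_lhs => rw [GU.decomp y]
  rw [← mul_assoc, ← mul_assoc, ← mul_assoc, ← mul_assoc, ← mul_assoc,
    em_ee h01 _ A6 (fun t => ⟨0, 0, 0, 0, 0, t⟩) rfl (em_step6 hA h01 h2 _),
    em_ee h01 _ A5 (fun t => ⟨0, 0, 0, 0, t, 0⟩) rfl (em_step5 hA h01 h2 _),
    em_ee h01 _ A4 (fun t => ⟨0, 0, 0, t, 0, 0⟩) rfl (em_step4 hA h01 h2 _),
    em_ee h01 _ A3 (fun t => ⟨0, 0, t, 0, 0, 0⟩) rfl (em_step3 hA h01 h2 _),
    em_ee h01 _ A2 (fun t => ⟨0, t, 0, 0, 0, 0⟩) rfl (em_step2 hA h01 h2 _),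
    em_ee h01 _ A1 (fun t => ⟨t, 0, 0, 0, 0, 0⟩) rfl (em_step1 hA h01 h2 _)]
  simp only [em, mul_assoc]

/-- **The homomorphism** `GU K → G`, `|K| = 2`, defined by six elements satisfying the relations. -/
noncomputable def emb (hA : Rel A1 A2 A3 A4 A5 A6) (h01 : ∀ t : K, t = 0 ∨ t = 1) (h2 : (1 : K) + 1 = 0) : GU K →* G :=
  MonoidHom.mk' (em A1 A2 A3 A4 A5 A6) (em_mul hA h01 h2)

theorem emb_apply (hA : Rel A1 A2 A3 A4 A5 A6) (h01 : ∀ t : K, t = 0 ∨ t = 1) (h2 : (1 : K) + 1 = 0) (x : GU K) :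
    emb hA h01 h2 x = ee A1 x.a * ee A2 x.b * ee A3 x.c * ee A4 x.d * ee A5 x.e * ee A6 x.f := rfl

theorem two_elts (hK : HypG K 2 1) : (∀ t : K, t = 0 ∨ t = 1) ∧ (1 : K) + 1 = 0 := by
  constructor
  · intro t
    have h1 : Nat.card K = 2 := by rw [hK.card, pow_one]
    have hf : Finite K := hK.fin
    by_contra hcon
    push Not at hcon
    classical
    have : Fintype K := Fintype.ofFinite K
    have h2 : ({0, 1, t} : Finset K).card ≤ Nat.card K := by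
      rw [Nat.card_eq_fintype_card]
      exact Finset.card_le_univ _
    rw [Finset.card_insert_of_notMem, Finset.card_insert_of_notMem, Finset.card_singleton, h1] at h2
    · omega
    · rw [Finset.mem_singleton]; exact fun h => hcon.2 h.symm
    · simp only [Finset.mem_insert, Finset.mem_singleton, not_or]
      exact ⟨zero_ne_one, fun h => hcon.1 h.symm⟩
  · have := hK.char
    exact CharTwo.add_self_eq_zero (1 : K)

theorem ker_aux (φ : GU K →* G) {x y z : GU K} (hx : φ x = 1) (h : x * y = z * (y * x)) : φ z = 1 := by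
  have h1 := congrArg φ h
  rw [map_mul, map_mul, map_mul, hx, one_mul, mul_one] at h1
  exact (mul_eq_right.1 h1.symm)

/-- a homomorphism is injective if the central element is not in the kernel -/
theorem injective_of (h01 : ∀ t : K, t = 0 ∨ t = 1) (h2 : (1 : K) + 1 = 0) (φ : GU K →* G)
    (h6 : φ ⟨0, 0, 0, 0, 0, 1⟩ ≠ 1) : Function.Injective φ := by
  have h3 : (2 : K) = 0 := by rw [← one_add_one_eq_two, h2]
  have h4 : (3 : K) = 1 := by rw [show (3 : K) = 1 + 1 + 1 by norm_num, h2, zero_add]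
  have h5 : (-1 : K) = 1 := by rw [neg_eq_iff_add_eq_zero, h2]
  have h7 : (6 : K) = 0 := by rw [show (6 : K) = 2 * 3 by norm_num, h3, zero_mul]
  rw [injective_iff_map_eq_one]
  have hb : ∀ x : GU K, φ x = 1 → x.b = 0 := by
    intro x hx
    obtain ⟨a, b, c, d, e, f⟩ := x
    rcases h01 b with rfl | rfl
    · rfl
    · exact absurd (ker_aux φ (y := ⟨0, 0, 0, 0, 1, 0⟩) (z := ⟨0, 0, 0, 0, 0, 1⟩) hx
        (by ext <;> simp [h2, h3, h4, h5, h7, add_comm])) h6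
  have he : ∀ x : GU K, φ x = 1 → x.a = 0 → x.b = 0 → x.c = 0 → x.d = 0 → x.e = 0 := by
    intro x hx ha hb hc hd
    obtain ⟨a, b, c, d, e, f⟩ := x
    obtain rfl : a = 0 := ha
    obtain rfl : b = 0 := hb
    obtain rfl : c = 0 := hc
    obtain rfl : d = 0 := hd
    rcases h01 e with rfl | rfl
    · rfl
    · refine absurd (ker_aux φ (y := ⟨0, 1, 0, 0, 0, 0⟩) (z := ⟨0, 0, 0, 0, 0, 1⟩) hx ?_) h6
      ext <;> simp [h2, h3, h4, h5, h7, sub_eq_add_neg, add_comm]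
  have ha : ∀ x : GU K, φ x = 1 → x.a = 0 := by
    intro x hx
    have hxb := hb x hx
    obtain ⟨a, b, c, d, e, f⟩ := x
    obtain rfl : b = 0 := hxb
    rcases h01 a with rfl | rfl
    · rfl
    · have h8 := ker_aux φ (y := ⟨0, 0, 1, 0, 0, 0⟩) (z := ⟨0, 0, 0, 0, 1, 1 + d⟩) hx
        (by
          rcases h01 c with rfl | rfl <;> rcases h01 d with rfl | rfl <;> rcases h01 e with rfl | rfl <;>
          rcases h01 f with rfl | rfl <;> ext <;> simp [h2, h3, h4, h5, h7])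
      exact absurd (he _ h8 rfl rfl rfl rfl) one_ne_zero
  intro x hx
  have hxa := ha x hx
  have hxb := hb x hx
  have hxe := he x hx
  obtain ⟨a, b, c, d, e, f⟩ := x
  obtain rfl : a = 0 := hxa
  obtain rfl : b = 0 := hxb
  rcases h01 c with rfl | rfl
  · rcases h01 d with rfl | rfl
    · obtain rfl : e = 0 := hxe rfl rfl rfl rfl
      rcases h01 f with rfl | rfl
      · rfl
      · exact absurd hx h6
    · refine absurd (ker_aux φ (y := ⟨0, 0, 1, 0, 0, 0⟩) (z := ⟨0, 0, 0, 0, 0, 1⟩) hx ?_) h6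
      ext <;> simp [h2, h3, h4, h5, h7, add_comm]
  · refine absurd (ker_aux φ (y := ⟨0, 0, 0, 1, 0, 0⟩) (z := ⟨0, 0, 0, 0, 0, 1⟩) hx ?_) h6
    rcases h01 d with rfl | rfl <;> rcases h01 f with rfl | rfl <;> ext <;> simp [h2, h3, h4, h5, h7, add_comm]

end

end Cfsg.Agent.H234.GT
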