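import Cfsg.Agent.H234.GT.Elt
import Cfsg.Agent.H234.GT.Pres

/-!
# S5211, task G2-Q2-G23: the relations between the elements of `OG`
-/

set_option autoImplicit false
set_option linter.unusedSimpArgs false
set_option linter.unusedTactic false
set_option linter.unreachableTactic false

namespace Cfsg.Agent.H234.GT

open Cfsg.Lie Matrix

theorem relX : Rel X1 X2 X3 X4 X5 X6 where
  s1 := ac_ext fun x => by
    simp only [ac_mul, ac_one, ac_X1]
    ext i
    fin_cases i <;> simp [fX1]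
  s2 := ac_ext fun x => by
    simp only [ac_mul, ac_one, ac_X2]
    ext i
    fin_cases i <;> simp [fX2]
  s3 := ac_ext fun x => by
    simp only [ac_mul, ac_one, ac_X3]
    ext i
    fin_cases i <;> simp [fX3]
  s4 := ac_ext fun x => by
    simp only [ac_mul, ac_one, ac_X4]
    ext i
    fin_cases i <;> simp [fX4]
  s5 := ac_ext fun x => by
    simp only [ac_mul, ac_one, ac_X5]
    ext i
    fin_cases i <;> simp [fX5]
  s6 := ac_ext fun x => by
    simp only [ac_mul, ac_one, ac_X6]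
    ext i
    fin_cases i <;> simp [fX6]
  r21 := ac_ext fun x => by
    simp only [ac_mul, ac_one, ac_X1, ac_X2, ac_X3, ac_X4, ac_X5, ac_X6]
    ext i
    fin_cases i <;> simp [fX1, fX2, fX3, fX4, fX5, fX6]
  r31 := ac_ext fun x => by
    simp only [ac_mul, ac_one, ac_X1, ac_X3, ac_X5, ac_X6]
    ext i
    fin_cases i <;> simp [fX1, fX3, fX5, fX6]
  r41 := ac_ext fun x => by
    simp only [ac_mul, ac_one, ac_X1, ac_X4, ac_X5]
    ext i
    fin_cases i <;> simp [fX1, fX4, fX5]
  r51 := ac_ext fun x => by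
    simp only [ac_mul, ac_one, ac_X1, ac_X5]
    ext i
    fin_cases i <;> simp [fX1, fX5]
  r61 := ac_ext fun x => by
    simp only [ac_mul, ac_one, ac_X1, ac_X6]
    ext i
    fin_cases i <;> simp [fX1, fX6]
  r32 := ac_ext fun x => by
    simp only [ac_mul, ac_one, ac_X2, ac_X3]
    ext i
    fin_cases i <;> simp [fX2, fX3]
  r42 := ac_ext fun x => by
    simp only [ac_mul, ac_one, ac_X2, ac_X4]
    ext i
    fin_cases i <;> simp [fX2, fX4]
  r52 := ac_ext fun x => by
    simp only [ac_mul, ac_one, ac_X2, ac_X5, ac_X6]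
    ext i
    fin_cases i <;> simp [fX2, fX5, fX6]
  r62 := ac_ext fun x => by
    simp only [ac_mul, ac_one, ac_X2, ac_X6]
    ext i
    fin_cases i <;> simp [fX2, fX6]
  r43 := ac_ext fun x => by
    simp only [ac_mul, ac_one, ac_X3, ac_X4, ac_X6]
    ext i
    fin_cases i <;> simp [fX3, fX4, fX6]
  r53 := ac_ext fun x => by
    simp only [ac_mul, ac_one, ac_X3, ac_X5]
    ext i
    fin_cases i <;> simp [fX3, fX5]
  r63 := ac_ext fun x => by
    simp only [ac_mul, ac_one, ac_X3, ac_X6]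
    ext i
    fin_cases i <;> simp [fX3, fX6]
  r54 := ac_ext fun x => by
    simp only [ac_mul, ac_one, ac_X4, ac_X5]
    ext i
    fin_cases i <;> simp [fX4, fX5]
  r64 := ac_ext fun x => by
    simp only [ac_mul, ac_one, ac_X4, ac_X6]
    ext i
    fin_cases i <;> simp [fX4, fX6]
  r65 := ac_ext fun x => by
    simp only [ac_mul, ac_one, ac_X5, ac_X6]
    ext i
    fin_cases i <;> simp [fX5, fX6]

theorem g1_2 : g1 * X2 = X3 * X5 * g1 := ac_ext fun x => by
    simp only [ac_mul, ac_one, ac_X2, ac_X3, ac_X5, ac_g1]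
    ext i
    fin_cases i <;> simp [fX2, fX3, fX5, fg1] <;> ring_nf <;> reduce_mod_char

theorem g1_3 : g1 * X3 = X2 * X3 * X4 * X5 * g1 := ac_ext fun x => by
    simp only [ac_mul, ac_one, ac_X2, ac_X3, ac_X4, ac_X5, ac_g1]
    ext i
    fin_cases i <;> simp [fX2, fX3, fX4, fX5, fg1] <;> ring_nf <;> reduce_mod_char

theorem g1_4 : g1 * X4 = X3 * g1 := ac_ext fun x => by
    simp only [ac_mul, ac_one, ac_X3, ac_X4, ac_g1]
    ext i
    fin_cases i <;> simp [fX3, fX4, fg1] <;> ring_nf <;> reduce_mod_char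

theorem g1_5 : g1 * X5 = X2 * X3 * X6 * g1 := ac_ext fun x => by
    simp only [ac_mul, ac_one, ac_X2, ac_X3, ac_X5, ac_X6, ac_g1]
    ext i
    fin_cases i <;> simp [fX2, fX3, fX5, fX6, fg1] <;> ring_nf <;> reduce_mod_char

theorem g1_6 : g1 * X6 = X6 * g1 := ac_ext fun x => by
    simp only [ac_mul, ac_one, ac_X6, ac_g1]
    ext i
    fin_cases i <;> simp [fX6, fg1] <;> ring_nf <;> reduce_mod_char

theorem g2_2 : g2 * X2 = X2 * X3 * X4 * X5 * g2 := ac_ext fun x => by
    simp only [ac_mul, ac_one, ac_X2, ac_X3, ac_X4, ac_X5, ac_g2]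
    ext i
    fin_cases i <;> simp [fX2, fX3, fX4, fX5, fg2] <;> ring_nf <;> reduce_mod_char

theorem g2_3 : g2 * X3 = X2 * X4 * g2 := ac_ext fun x => by
    simp only [ac_mul, ac_one, ac_X2, ac_X3, ac_X4, ac_g2]
    ext i
    fin_cases i <;> simp [fX2, fX3, fX4, fg2] <;> ring_nf <;> reduce_mod_char

theorem g2_4 : g2 * X4 = X2 * X3 * X6 * g2 := ac_ext fun x => by
    simp only [ac_mul, ac_one, ac_X2, ac_X3, ac_X4, ac_X6, ac_g2]
    ext i
    fin_cases i <;> simp [fX2, fX3, fX4, fX6, fg2] <;> ring_nf <;> reduce_mod_char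

theorem g2_5 : g2 * X5 = X2 * g2 := ac_ext fun x => by
    simp only [ac_mul, ac_one, ac_X2, ac_X5, ac_g2]
    ext i
    fin_cases i <;> simp [fX2, fX5, fg2] <;> ring_nf <;> reduce_mod_char

theorem g2_6 : g2 * X6 = X6 * g2 := ac_ext fun x => by
    simp only [ac_mul, ac_one, ac_X6, ac_g2]
    ext i
    fin_cases i <;> simp [fX6, fg2] <;> ring_nf <;> reduce_mod_char

theorem h_1 : h * X1 = X4 * h := ac_ext fun x => by
    simp only [ac_mul, ac_one, ac_X1, ac_X4, ac_h]
    ext i
    fin_cases i <;> simp [fX1, fX4, fh]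

theorem h_3 : h * X3 = X3 * h := ac_ext fun x => by
    simp only [ac_mul, ac_one, ac_X3, ac_h]
    ext i
    fin_cases i <;> simp [fX3, fh]

theorem h_4 : h * X4 = X1 * X3 * X4 * X5 * h := ac_ext fun x => by
    simp only [ac_mul, ac_one, ac_X1, ac_X3, ac_X4, ac_X5, ac_h]
    ext i
    fin_cases i <;> simp [fX1, fX3, fX4, fX5, fh]

theorem h_5 : h * X5 = X5 * X6 * h := ac_ext fun x => by
    simp only [ac_mul, ac_one, ac_X5, ac_X6, ac_h]
    ext i
    fin_cases i <;> simp [fX5, fX6, fh]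

theorem h_6 : h * X6 = X5 * h := ac_ext fun x => by
    simp only [ac_mul, ac_one, ac_X5, ac_X6, ac_h]
    ext i
    fin_cases i <;> simp [fX5, fX6, fh]

theorem g1_g2 : g1 * g2 = g2 * g1 := ac_ext fun x => by
    simp only [ac_mul, ac_one, ac_g1, ac_g2]
    ext i
    fin_cases i <;> simp [fg1, fg2] <;> ring_nf <;> reduce_mod_char

theorem g1_pow : g1 * g1 * g1 = 1 := ac_ext fun x => by
    simp only [ac_mul, ac_one, ac_g1]
    ext i
    fin_cases i <;> simp [fg1] <;> ring_nf <;> reduce_mod_char <;> ring_nf <;> reduce_mod_char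

theorem g2_pow : g2 * g2 * g2 = 1 := ac_ext fun x => by
    simp only [ac_mul, ac_one, ac_g2]
    ext i
    fin_cases i <;> simp [fg2] <;> ring_nf <;> reduce_mod_char <;> ring_nf <;> reduce_mod_char

end Cfsg.Agent.H234.GT
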